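import Mathlib

/-!
# A presentation-like characterisation of a group of order `320`
-/

set_option autoImplicit false
set_option linter.unusedVariables false
set_option linter.unusedSectionVars false

namespace Cfsg.Agent.Lib.ZT

section basics

variable {W : Type*} [Group W]

/-- The commutator of two elements. -/
def cm (a b : W) : W := a * b * a⁻¹ * b⁻¹

/-- The `i`-th conjugate of `y` under `x`. -/
def yy (x y : W) (i : ℕ) : W := x ^ i * y * (x ^ i)⁻¹

/-- The relations. -/
structure Rel320 (x y : W) : Prop where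
  x5 : x ^ 5 = 1
  b1c : ∀ g : W, g * cm y (yy x y 1) = cm y (yy x y 1) * g
  b2c : ∀ g : W, g * cm y (yy x y 2) = cm y (yy x y 2) * g
  b1s : cm y (yy x y 1) ^ 2 = 1
  b2s : cm y (yy x y 2) ^ 2 = 1
  ysq : y ^ 2 = cm y (yy x y 1) * cm y (yy x y 2)
  prod : y * yy x y 1 * yy x y 2 * yy x y 3 * yy x y 4 = 1

theorem cm_mul_left {a b c : W} (h : ∀ g : W, g * cm b c = cm b c * g) :
    cm (a * b) c = cm a c * cm b c := by
  have e : cm (a * b) c = a * cm b c * c * a⁻¹ * c⁻¹ := by
    unfold cm; group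
  rw [e, h a, h (cm a c)]
  unfold cm; group

theorem cm_mul_right {a b c : W} (h : ∀ g : W, g * cm a c = cm a c * g) :
    cm a (b * c) = cm a b * cm a c := by
  have e : cm a (b * c) = cm a b * (b * cm a c * b⁻¹) := by
    unfold cm; group
  rw [e, h b]
  simp

theorem cm_inv_right {a b : W} (h : ∀ g : W, g * cm a b = cm a b * g) :
    cm a b⁻¹ = (cm a b)⁻¹ := by
  have e : cm a b⁻¹ = b⁻¹ * (cm a b)⁻¹ * b := by
    unfold cm; group
  have h2 : b⁻¹ * (cm a b)⁻¹ = (cm a b)⁻¹ * b⁻¹ := by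
    have := h b⁻¹
    calc b⁻¹ * (cm a b)⁻¹ = (cm a b)⁻¹ * (cm a b * b⁻¹) * (cm a b)⁻¹ := by group
      _ = (cm a b)⁻¹ * (b⁻¹ * cm a b) * (cm a b)⁻¹ := by rw [this]
      _ = (cm a b)⁻¹ * b⁻¹ := by group
  rw [e, h2]
  group

theorem cm_swap (a b : W) : cm b a = (cm a b)⁻¹ := by
  unfold cm; group

theorem cm_conj (g a b : W) : g * cm a b * g⁻¹ = cm (g * a * g⁻¹) (g * b * g⁻¹) := by
  unfold cm; group

theorem conj_of_central {z : W} (h : ∀ g : W, g * z = z * g) (g : W) : g * z * g⁻¹ = z := by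
  rw [h g]; group

theorem yy_zero (x y : W) : yy x y 0 = y := by simp [yy]

theorem yy_succ (x y : W) (i : ℕ) : yy x y (i + 1) = x * yy x y i * x⁻¹ := by
  simp only [yy, pow_succ']
  group

theorem yy_add (x y : W) (i k : ℕ) : yy x y (i + k) = x ^ k * yy x y i * (x ^ k)⁻¹ := by
  simp only [yy, pow_add]
  have : x ^ i * x ^ k = x ^ k * x ^ i := (Commute.pow_pow_self x i k)
  rw [this]
  group

theorem yy_five {x : W} (y : W) (h : x ^ 5 = 1) : yy x y 5 = y := by
  simp [yy, h]

end basics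

section card

variable {W : Type*} [Group W] [Finite W]

/-- Normalising from conjugation into the subgroup. -/
theorem mem_normalizer_of_conj (H : Subgroup W) (g : W) (h : ∀ s ∈ H, g * s * g⁻¹ ∈ H) :
    g ∈ Subgroup.normalizer (H : Set W) := by
  have hpow : ∀ n : ℕ, ∀ s ∈ H, g ^ n * s * (g ^ n)⁻¹ ∈ H := by
    intro n
    induction n with
    | zero => intro s hs; simpa using hs
    | succ k ih =>
      intro s hs
      have := h _ (ih s hs)
      have e : g ^ (k + 1) * s * (g ^ (k + 1))⁻¹ = g * (g ^ k * s * (g ^ k)⁻¹) * g⁻¹ := by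
        rw [pow_succ']; group
      rw [e]; exact this
  rw [Subgroup.mem_normalizer_iff]
  intro s
  refine ⟨h s, fun hs => ?_⟩
  have hord : g ^ orderOf g = 1 := pow_orderOf_eq_one g
  have hpos : 0 < orderOf g := orderOf_pos g
  have hginv : g⁻¹ = g ^ (orderOf g - 1) := by
    apply inv_eq_of_mul_eq_one_right
    rw [← pow_succ', Nat.sub_add_cancel hpos, hord]
  have h1 := hpow (orderOf g - 1) _ hs
  rw [← hginv] at h1
  have e : g⁻¹ * (g * s * g⁻¹) * g⁻¹⁻¹ = s := by group
  rwa [e] at h1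

/-- The order of the join of a subgroup and a cyclic group normalising it. -/
theorem card_sup_zpowers_le (H : Subgroup W) (g : W) (hg : g ∈ Subgroup.normalizer (H : Set W)) (n : ℕ) (hn : 0 < n)
    (hgn : g ^ n ∈ H) : Nat.card ↥(H ⊔ Subgroup.zpowers g) ≤ n * Nat.card H := by
  classical
  have hz : ∀ k : ℤ, g ^ k ∈ Subgroup.normalizer (H : Set W) := fun k => Subgroup.zpow_mem _ hg k
  let L : Subgroup W :=
    { carrier := {w | ∃ h ∈ H, ∃ k : ℤ, w = h * g ^ k}
      mul_mem' := by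
        rintro _ _ ⟨h, hh, k, rfl⟩ ⟨h', hh', l, rfl⟩
        refine ⟨h * (g ^ k * h' * (g ^ k)⁻¹), H.mul_mem hh (((Subgroup.mem_normalizer_iff.1 (hz k)) h').1 hh'), k + l, ?_⟩
        rw [zpow_add]; group
      one_mem' := ⟨1, H.one_mem, 0, by simp⟩
      inv_mem' := by
        rintro _ ⟨h, hh, k, rfl⟩
        refine ⟨g ^ (-k) * h⁻¹ * (g ^ (-k))⁻¹, ((Subgroup.mem_normalizer_iff.1 (hz (-k))) h⁻¹).1 (H.inv_mem hh), -k, ?_⟩
        group }
  have hle : H ⊔ Subgroup.zpowers g ≤ L := by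
    apply sup_le
    · intro h hh
      exact ⟨h, hh, 0, by simp⟩
    · rw [Subgroup.zpowers_le]
      exact ⟨1, H.one_mem, 1, by simp⟩
  let φ : ↥H × Fin n → ↥(H ⊔ Subgroup.zpowers g) := fun p =>
    ⟨p.1.1 * g ^ (p.2 : ℕ), Subgroup.mul_mem _ (Subgroup.mem_sup_left p.1.2)
      (Subgroup.mem_sup_right (Subgroup.npow_mem_zpowers g _))⟩
  have hφ : Function.Surjective φ := by
    rintro ⟨w, hw⟩
    obtain ⟨h, hh, k, rfl⟩ := hle hw
    have hnz : (0 : ℤ) < n := by exact_mod_cast hn
    have hr0 : 0 ≤ k % n := Int.emod_nonneg _ hnz.ne'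
    have hrlt : k % n < n := Int.emod_lt_of_pos _ hnz
    obtain ⟨r, hr⟩ := Int.eq_ofNat_of_zero_le hr0
    have hrn : r < n := by omega
    have hk : k = n * (k / n) + r := by
      have := Int.mul_ediv_add_emod k n
      omega
    have hgk : g ^ k = (g ^ n) ^ (k / n) * g ^ r := by
      conv_lhs => rw [hk]
      rw [zpow_add, zpow_mul]
      simp
    refine ⟨(⟨h * (g ^ n) ^ (k / n), H.mul_mem hh (H.zpow_mem hgn _)⟩, ⟨r, hrn⟩), ?_⟩
    apply Subtype.ext
    show h * (g ^ n) ^ (k / n) * g ^ r = h * g ^ k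
    rw [hgk]; group
  have h1 := Nat.card_le_card_of_surjective φ hφ
  rw [Nat.card_prod, Nat.card_eq_fintype_card (α := Fin n), Fintype.card_fin] at h1
  rw [mul_comm]
  exact h1

/-- Elements with commutators in a central subgroup form a subgroup. -/
def cmSub (B : Subgroup W) (hB : ∀ z ∈ B, ∀ g : W, g * z = z * g) (g : W) : Subgroup W where
  carrier := {s | cm g s ∈ B}
  mul_mem' := by
    intro a b ha hb
    show cm g (a * b) ∈ B
    rw [cm_mul_right (hB _ hb)]
    exact B.mul_mem ha hb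
  one_mem' := by
    show cm g 1 ∈ B
    have : cm g (1 : W) = 1 := by unfold cm; group
    rw [this]; exact B.one_mem
  inv_mem' := by
    intro a ha
    show cm g a⁻¹ ∈ B
    rw [cm_inv_right (hB _ ha)]
    exact B.inv_mem ha

theorem norm_of_cm (B H : Subgroup W) (hB : ∀ z ∈ B, ∀ g : W, g * z = z * g) (hBH : B ≤ H) (g : W)
    (hg : H ≤ cmSub B hB g) : g ∈ Subgroup.normalizer (H : Set W) := by
  apply mem_normalizer_of_conj
  intro s hs
  have h1 : cm g s ∈ H := hBH (hg hs)
  have e : g * s * g⁻¹ = cm g s * s := by unfold cm; group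
  rw [e]
  exact H.mul_mem h1 hs

theorem card_closure_rel {x y : W} (h : Rel320 x y) :
    Nat.card (Subgroup.closure ({x, y} : Set W)) ≤ 320 := by
  classical
  set y1 := yy x y 1 with hy1
  set y2 := yy x y 2 with hy2
  set y3 := yy x y 3 with hy3
  set y4 := yy x y 4 with hy4
  set b1 := cm y y1 with hb1
  set b2 := cm y y2 with hb2
  have hb1c : ∀ g : W, g * b1 = b1 * g := h.b1c
  have hb2c : ∀ g : W, g * b2 = b2 * g := h.b2c
  have hsx1 : x * y * x⁻¹ = y1 := by
    rw [hy1, yy_succ, yy_zero]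
  have hsx2 : x * y1 * x⁻¹ = y2 := by
    rw [hy2, hy1, yy_succ x y 1]
  have hsx3 : x * y2 * x⁻¹ = y3 := by
    rw [hy3, hy2, yy_succ x y 2]
  have hsx4 : x * y3 * x⁻¹ = y4 := by
    rw [hy4, hy3, yy_succ x y 3]
  -- commutators
  have c12 : cm y1 y2 = b1 := by
    have := cm_conj x y y1
    rw [hsx1, hsx2, conj_of_central hb1c] at this
    exact this.symm
  have c23 : cm y2 y3 = b1 := by
    have := cm_conj x y1 y2
    rw [hsx2, hsx3, c12, conj_of_central hb1c] at this
    exact this.symm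
  have c13 : cm y1 y3 = b2 := by
    have := cm_conj x y y2
    rw [hsx1, hsx3, conj_of_central hb2c] at this
    exact this.symm
  have hb2inv : b2⁻¹ = b2 := by
    have := h.b2s
    rw [pow_two] at this
    exact inv_eq_of_mul_eq_one_left this
  have hb1inv : b1⁻¹ = b1 := by
    have := h.b1s
    rw [pow_two] at this
    exact inv_eq_of_mul_eq_one_left this
  have hbc : ∀ g : W, g * (b1 * b2) = (b1 * b2) * g := by
    intro g
    rw [← mul_assoc, hb1c, mul_assoc, hb2c, mul_assoc]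
  have c03 : cm y y3 = b2 := by
    have e1 : x ^ 2 * y * (x ^ 2)⁻¹ = y2 := rfl
    have e2 : x ^ 2 * y3 * (x ^ 2)⁻¹ = y := by
      have : yy x y 5 = x ^ 2 * yy x y 3 * (x ^ 2)⁻¹ := yy_add x y 3 2
      rw [yy_five y h.x5] at this
      exact this.symm
    have e3 := cm_conj (x ^ 2) y y3
    rw [e1, e2] at e3
    have e5 : cm y2 y = b2 := by
      rw [cm_swap]
      exact hb2inv
    rw [e5] at e3
    have e4 : cm y y3 = (x ^ 2)⁻¹ * b2 * (x ^ 2) := by
      rw [← e3]; group
    rw [e4, hb2c]; group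
  -- squares
  have sqn : ∀ u v : W, u ^ 2 = b1 * b2 → x * u * x⁻¹ = v → v ^ 2 = b1 * b2 := by
    intro u v hu hv
    have : v ^ 2 = x * u ^ 2 * x⁻¹ := by
      rw [← hv, pow_two, pow_two]; group
    rw [this, hu, conj_of_central hbc]
  have sq1 : y1 ^ 2 = b1 * b2 := sqn _ _ h.ysq hsx1
  have sq2 : y2 ^ 2 = b1 * b2 := sqn _ _ sq1 hsx2
  have sq3 : y3 ^ 2 = b1 * b2 := sqn _ _ sq2 hsx3
  -- the chain
  let B0 : Subgroup W := ⊥ ⊔ Subgroup.zpowers b1
  let B : Subgroup W := B0 ⊔ Subgroup.zpowers b2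
  have hb1B : b1 ∈ B := Subgroup.mem_sup_left (Subgroup.mem_sup_right (Subgroup.mem_zpowers _))
  have hb2B : b2 ∈ B := Subgroup.mem_sup_right (Subgroup.mem_zpowers _)
  have hBc : ∀ z ∈ B, ∀ g : W, g * z = z * g := by
    intro z hz g
    have hle : B ≤ Subgroup.centralizer ({g} : Set W) := by
      refine sup_le (sup_le bot_le ?_) ?_
      · rw [Subgroup.zpowers_le, Subgroup.mem_centralizer_singleton_iff]
        exact (hb1c g).symm
      · rw [Subgroup.zpowers_le, Subgroup.mem_centralizer_singleton_iff]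
        exact (hb2c g).symm
    have := hle hz
    rw [Subgroup.mem_centralizer_singleton_iff] at this
    exact this.symm
  have hcent : ∀ (H : Subgroup W) (g : W), (∀ g' : W, g' * g = g * g') → g ∈ Subgroup.normalizer (H : Set W) := by
    intro H g hg
    apply mem_normalizer_of_conj
    intro s hs
    have : g * s * g⁻¹ = s := by
      rw [← hg s]; group
    rw [this]; exact hs
  have hB0card : Nat.card B0 ≤ 2 := by
    have := card_sup_zpowers_le ⊥ b1 (hcent _ _ hb1c) 2 (by norm_num) (by rw [h.b1s]; exact Subgroup.one_mem _)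
    calc Nat.card B0 ≤ 2 * Nat.card (⊥ : Subgroup W) := this
      _ = 2 := by simp
  have hBcard : Nat.card B ≤ 4 := by
    have := card_sup_zpowers_le B0 b2 (hcent _ _ hb2c) 2 (by norm_num) (by rw [h.b2s]; exact Subgroup.one_mem _)
    calc Nat.card B ≤ 2 * Nat.card B0 := this
      _ ≤ 4 := by omega
  have hzT : ∀ g : W, B ≤ cmSub B hBc g := by
    intro g z hz
    show cm g z ∈ B
    have : cm g z = 1 := by
      unfold cm
      rw [hBc z hz g]
      group
    rw [this]
    exact B.one_mem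
  have hbb : b1 * b2 ∈ B := B.mul_mem hb1B hb2B
  let A0 : Subgroup W := B ⊔ Subgroup.zpowers y
  let A1 : Subgroup W := A0 ⊔ Subgroup.zpowers y1
  let A2 : Subgroup W := A1 ⊔ Subgroup.zpowers y2
  let A3 : Subgroup W := A2 ⊔ Subgroup.zpowers y3
  let A4 : Subgroup W := A3 ⊔ Subgroup.zpowers x
  have hBA0 : B ≤ A0 := le_sup_left
  have hA01 : A0 ≤ A1 := le_sup_left
  have hA12 : A1 ≤ A2 := le_sup_left
  have hA23 : A2 ≤ A3 := le_sup_left
  have hA34 : A3 ≤ A4 := le_sup_left
  have hyA0 : y ∈ A0 := Subgroup.mem_sup_right (Subgroup.mem_zpowers _)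
  have hy1A1 : y1 ∈ A1 := Subgroup.mem_sup_right (Subgroup.mem_zpowers _)
  have hy2A2 : y2 ∈ A2 := Subgroup.mem_sup_right (Subgroup.mem_zpowers _)
  have hy3A3 : y3 ∈ A3 := Subgroup.mem_sup_right (Subgroup.mem_zpowers _)
  have hxA4 : x ∈ A4 := Subgroup.mem_sup_right (Subgroup.mem_zpowers _)
  have hA0card : Nat.card A0 ≤ 8 := by
    have := card_sup_zpowers_le B y (norm_of_cm B B hBc le_rfl y (hzT y)) 2 (by norm_num)
      (by rw [h.ysq]; exact hbb)
    calc Nat.card A0 ≤ 2 * Nat.card B := this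
      _ ≤ 8 := by omega
  have hA1card : Nat.card A1 ≤ 16 := by
    have hT : A0 ≤ cmSub B hBc y1 := by
      refine sup_le (hzT y1) ?_
      rw [Subgroup.zpowers_le]
      show cm y1 y ∈ B
      rw [cm_swap]
      exact B.inv_mem hb1B
    have := card_sup_zpowers_le A0 y1 (norm_of_cm B A0 hBc hBA0 y1 hT) 2 (by norm_num)
      (by rw [sq1]; exact hBA0 hbb)
    calc Nat.card A1 ≤ 2 * Nat.card A0 := this
      _ ≤ 16 := by omega
  have hA2card : Nat.card A2 ≤ 32 := by
    have hT : A1 ≤ cmSub B hBc y2 := by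
      refine sup_le (sup_le (hzT y2) ?_) ?_
      · rw [Subgroup.zpowers_le]
        show cm y2 y ∈ B
        rw [cm_swap]
        exact B.inv_mem hb2B
      · rw [Subgroup.zpowers_le]
        show cm y2 y1 ∈ B
        rw [cm_swap, c12]
        exact B.inv_mem hb1B
    have := card_sup_zpowers_le A1 y2 (norm_of_cm B A1 hBc (hBA0.trans hA01) y2 hT) 2 (by norm_num)
      (by rw [sq2]; exact hA01 (hBA0 hbb))
    calc Nat.card A2 ≤ 2 * Nat.card A1 := this
      _ ≤ 32 := by omega
  have hA3card : Nat.card A3 ≤ 64 := by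
    have hT : A2 ≤ cmSub B hBc y3 := by
      refine sup_le (sup_le (sup_le (hzT y3) ?_) ?_) ?_
      · rw [Subgroup.zpowers_le]
        show cm y3 y ∈ B
        rw [cm_swap, c03]
        exact B.inv_mem hb2B
      · rw [Subgroup.zpowers_le]
        show cm y3 y1 ∈ B
        rw [cm_swap, c13]
        exact B.inv_mem hb2B
      · rw [Subgroup.zpowers_le]
        show cm y3 y2 ∈ B
        rw [cm_swap, c23]
        exact B.inv_mem hb1B
    have := card_sup_zpowers_le A2 y3 (norm_of_cm B A2 hBc (hBA0.trans (hA01.trans hA12)) y3 hT) 2 (by norm_num)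
      (by rw [sq3]; exact hA12 (hA01 (hBA0 hbb)))
    calc Nat.card A3 ≤ 2 * Nat.card A2 := this
      _ ≤ 64 := by omega
  have hBA3 : B ≤ A3 := hBA0.trans (hA01.trans (hA12.trans hA23))
  have hyA3 : y ∈ A3 := hA23 (hA12 (hA01 hyA0))
  have hy1A3 : y1 ∈ A3 := hA23 (hA12 hy1A1)
  have hy2A3 : y2 ∈ A3 := hA23 hy2A2
  have hy4 : y4 ∈ A3 := by
    have hp : y * y1 * y2 * y3 * y4 = 1 := h.prod
    have : y4 = (y * y1 * y2 * y3)⁻¹ := eq_inv_of_mul_eq_one_right hp
    rw [this]
    exact A3.inv_mem (A3.mul_mem (A3.mul_mem (A3.mul_mem hyA3 hy1A3) hy2A3) hy3A3)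
  have hxN : x ∈ Subgroup.normalizer (A3 : Set W) := by
    apply mem_normalizer_of_conj
    have hle : A3 ≤ A3.comap (MulAut.conj x).toMonoidHom := by
      refine sup_le (sup_le (sup_le (sup_le ?_ ?_) ?_) ?_) ?_
      · refine sup_le (sup_le bot_le ?_) ?_
        · rw [Subgroup.zpowers_le]
          show x * b1 * x⁻¹ ∈ A3
          rw [conj_of_central hb1c]
          exact hBA3 hb1B
        · rw [Subgroup.zpowers_le]
          show x * b2 * x⁻¹ ∈ A3
          rw [conj_of_central hb2c]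
          exact hBA3 hb2B
      · rw [Subgroup.zpowers_le]
        show x * y * x⁻¹ ∈ A3
        rw [hsx1]; exact hy1A3
      · rw [Subgroup.zpowers_le]
        show x * y1 * x⁻¹ ∈ A3
        rw [hsx2]; exact hy2A3
      · rw [Subgroup.zpowers_le]
        show x * y2 * x⁻¹ ∈ A3
        rw [hsx3]; exact hy3A3
      · rw [Subgroup.zpowers_le]
        show x * y3 * x⁻¹ ∈ A3
        rw [hsx4]; exact hy4
    intro s hs
    exact hle hs
  have hA4card : Nat.card A4 ≤ 320 := by
    have := card_sup_zpowers_le A3 x hxN 5 (by norm_num) (by rw [h.x5]; exact A3.one_mem)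
    calc Nat.card A4 ≤ 5 * Nat.card A3 := this
      _ ≤ 320 := by omega
  have hcl : Subgroup.closure ({x, y} : Set W) ≤ A4 := by
    rw [Subgroup.closure_le]
    rintro w (rfl | rfl)
    · exact hxA4
    · exact hA34 hyA3
  exact (Subgroup.card_le_of_le hcl).trans hA4card

theorem yy_prod {G₁ G₂ : Type*} [Group G₁] [Group G₂] (x y : G₁) (x' y' : G₂) (i : ℕ) :
    yy ((x, x') : G₁ × G₂) (y, y') i = (yy x y i, yy x' y' i) := by
  apply Prod.ext <;> simp [yy]

theorem cm_prod {G₁ G₂ : Type*} [Group G₁] [Group G₂] (x y : G₁) (x' y' : G₂) :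
    cm ((x, x') : G₁ × G₂) (y, y') = (cm x y, cm x' y') := by
  apply Prod.ext <;> simp [cm]

theorem Rel320.prod' {G₁ G₂ : Type*} [Group G₁] [Group G₂] {x y : G₁} {x' y' : G₂}
    (h : Rel320 x y) (h' : Rel320 x' y') : Rel320 ((x, x') : G₁ × G₂) (y, y') where
  x5 := by
    apply Prod.ext
    · simpa using h.x5
    · simpa using h'.x5
  b1c := by
    rintro ⟨a, b⟩
    rw [yy_prod, cm_prod]
    apply Prod.ext
    · exact h.b1c a
    · exact h'.b1c b
  b2c := by
    rintro ⟨a, b⟩
    rw [yy_prod, cm_prod]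
    apply Prod.ext
    · exact h.b2c a
    · exact h'.b2c b
  b1s := by
    rw [yy_prod, cm_prod]
    apply Prod.ext
    · simpa using h.b1s
    · simpa using h'.b1s
  b2s := by
    rw [yy_prod, cm_prod]
    apply Prod.ext
    · simpa using h.b2s
    · simpa using h'.b2s
  ysq := by
    rw [yy_prod, yy_prod, cm_prod, cm_prod]
    apply Prod.ext
    · simpa using h.ysq
    · simpa using h'.ysq
  prod := by
    rw [yy_prod, yy_prod, yy_prod, yy_prod]
    apply Prod.ext
    · simpa using h.prod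
    · simpa using h'.prod

/-- Two groups of order `320` with generators satisfying the relations are isomorphic. -/
theorem iso_of_rel {G₁ G₂ : Type*} [Group G₁] [Group G₂] [Finite G₁] [Finite G₂]
    (hc1 : Nat.card G₁ = 320) (hc2 : Nat.card G₂ = 320) {x y : G₁} {x' y' : G₂}
    (h1 : Rel320 x y) (h2 : Rel320 x' y')
    (g1 : Subgroup.closure ({x, y} : Set G₁) = ⊤) (g2 : Subgroup.closure ({x', y'} : Set G₂) = ⊤) :
    Nonempty (G₁ ≃* G₂) := by
  classical
  let D : Subgroup (G₁ × G₂) := Subgroup.closure ({(x, x'), (y, y')} : Set (G₁ × G₂))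
  have hD : Nat.card D ≤ 320 := card_closure_rel (h1.prod' h2)
  have hs1 : Function.Surjective ((MonoidHom.fst G₁ G₂).comp D.subtype) := by
    rw [← MonoidHom.range_eq_top, MonoidHom.range_comp, Subgroup.range_subtype, MonoidHom.map_closure]
    rw [eq_top_iff, ← g1, Subgroup.closure_le]
    rintro w (rfl | rfl)
    · exact Subgroup.subset_closure ⟨(w, x'), Or.inl rfl, rfl⟩
    · exact Subgroup.subset_closure ⟨(w, y'), Or.inr rfl, rfl⟩
  have hs2 : Function.Surjective ((MonoidHom.snd G₁ G₂).comp D.subtype) := by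
    rw [← MonoidHom.range_eq_top, MonoidHom.range_comp, Subgroup.range_subtype, MonoidHom.map_closure]
    rw [eq_top_iff, ← g2, Subgroup.closure_le]
    rintro w (rfl | rfl)
    · exact Subgroup.subset_closure ⟨(x, w), Or.inl rfl, rfl⟩
    · exact Subgroup.subset_closure ⟨(y, w), Or.inr rfl, rfl⟩
  have hb1 : Function.Bijective ((MonoidHom.fst G₁ G₂).comp D.subtype) :=
    hs1.bijective_of_nat_card_le (by rw [hc1]; exact hD)
  have hb2 : Function.Bijective ((MonoidHom.snd G₁ G₂).comp D.subtype) :=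
    hs2.bijective_of_nat_card_le (by rw [hc2]; exact hD)
  exact ⟨(MulEquiv.ofBijective _ hb1).symm.trans (MulEquiv.ofBijective _ hb2)⟩

end card

end Cfsg.Agent.Lib.ZT
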